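import Groth.Agent.H8Lim.ProjLinePow
import Groth.Agent.CAlgSmall.DimFormulaBounds
import Groth.Agent.EGA43.DimFormula.Charts
import Groth.Agent.CAlgH3.FibreCodim
import Groth.Agent.CycLib28.FiniteNear
import Groth.Agent.Lef23.FibPd
import Groth.Agent.Coherent.ProjSpaceFinite
import Groth.Agent.EGA43.Unibranch.Open

/-!
# Integral subschemes of codimension `n` of `(P^1_X)^n` flat and dominant over `X` are finite
-/

set_option autoImplicit false
set_option backward.isDefEq.respectTransparency false
set_option backward.isDefEq.respectTransparency.types false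
set_option linter.style.haveILetI false
set_option maxHeartbeats 1000000

universe u

open CategoryTheory CategoryTheory.Limits AlgebraicGeometry TopologicalSpace

namespace Groth.Agent.CodimGraph28

open Groth.Agent FlatMorWeight EGA43.DimFormula
open CohB1 (ProjSpaceOver)

theorem fiber_dim_projSpaceOver (n : ℕ) (S : Scheme.{u}) (s : S) :
    topologicalKrullDim ↥((ProjSpaceOver.toBase n S).fiber s) ≤ (n : WithBot ℕ∞) := by
  let K := S.residueField s
  let c := S.fromSpecResidueField s ≫ specULiftZIsTerminal.from S
  let φ : CommRingCat.of (ULift.{u} ℤ) ⟶ CommRingCat.of K := Spec.preimage c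
  have hφ : Spec.map φ = c := Spec.map_preimage _
  letI : Algebra (ULift.{u} ℤ) K := φ.hom.toAlgebra
  have h := Coherent.isPullback_projSpace n (ULift.{u} ℤ) K
  have h' : IsPullback (Proj.map (Coherent.polyGradedMap n (ULift.{u} ℤ) K) (Coherent.polyGradedMap_irrelevant n (ULift.{u} ℤ) K))
      (CohB1.ProjSpace.toSpec n K) (CohB1.ProjSpace.toSpec n (ULift.{u} ℤ)) c := by
    rw [← hφ]
    exact h
  have h2 := (IsPullback.of_hasPullback (ProjSpaceOver.toBase n S) (S.fromSpecResidueField s)).paste_horiz
    (IsPullback.of_hasPullback (CohB1.ProjSpace.toSpec n (ULift.{u} ℤ)) (specULiftZIsTerminal.from S))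
  let e := h'.isoIsPullback _ _ h2
  exact (e.hom.homeomorph.isHomeomorph.topologicalKrullDim_eq.symm.trans
    (DimLib.PN.topologicalKrullDim_projSpace n K)).le

theorem trdAt_projSpaceOver_le (n : ℕ) (S : Scheme.{u}) (z : ↥(ProjSpaceOver n S)) :
    trdAt (ProjSpaceOver.toBase n S) z ≤ n :=
  haveI : IsProper (CohB1.ProjSpace.toSpec n (ULift.{u} ℤ)) := Coherent.isProper_projSpace_toSpec _ _
  haveI : LocallyOfFiniteType (ProjSpaceOver.toBase n S) :=
    MorphismProperty.pullback_snd (P := @LocallyOfFiniteType) _ _ inferInstance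
  (FlatMorDim.fiber_dim_le_iff (ProjSpaceOver.toBase n S) _ n).1 (fiber_dim_projSpaceOver n S _) z rfl

theorem main (X : Scheme.{u}) [IsIntegral X] [IsNoetherian X] (n : ℕ) (W : Scheme.{u}) [IsIntegral W]
    (i : W ⟶ widePullback X (fun _ : Fin n => ProjSpaceOver 1 X) (fun _ => ProjSpaceOver.toBase 1 X))
    [IsClosedImmersion i]
    (hcodim : ringKrullDim
      ((widePullback X (fun _ : Fin n => ProjSpaceOver 1 X)
        (fun _ => ProjSpaceOver.toBase 1 X)).presheaf.stalk (i.base (genericPoint W))) = n)
    (f : W ⟶ X) (hf : i ≫ WidePullback.base (fun _ : Fin n => ProjSpaceOver.toBase 1 X) = f)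
    [IsDominant f] [Flat f] : IsFinite f ∧ Surjective f := by
  subst hf
  obtain ⟨φ, hφ, hφs, hφb⟩ := H8Lim.ProjLineProd.exists_pow X n
  haveI : IsProper (CohB1.ProjSpace.toSpec n (ULift.{u} ℤ)) := Coherent.isProper_projSpace_toSpec _ _
  haveI : IsProper (ProjSpaceOver.toBase n X) := MorphismProperty.pullback_snd (P := @IsProper) _ _ inferInstance
  set p := WidePullback.base (fun _ : Fin n => ProjSpaceOver.toBase 1 X) with hp
  haveI : IsProper p := by rw [← hφb]; infer_instance
  haveI : IsProper (i ≫ p) := inferInstance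
  haveI : IsLocallyNoetherian (widePullback X (fun _ : Fin n => ProjSpaceOver 1 X) (fun _ => ProjSpaceOver.toBase 1 X)) :=
    LocallyOfFiniteType.isLocallyNoetherian p
  haveI : IsLocallyNoetherian W := LocallyOfFiniteType.isLocallyNoetherian (i ≫ p)
  have htrd : ∀ y, trdAt p y ≤ n := fun y => by
    rw [← hφb, trdAt_comp_locallyQuasiFinite φ]
    exact trdAt_projSpaceOver_le n X _
  have hη : (i ≫ p) (genericPoint W) = genericPoint X := EGA43.Unibranch.map_genericPoint_of_isDominant _
  have hgen : trdAt (i ≫ p) (genericPoint W) = 0 := by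
    rw [trdAt_comp i p]
    have h1 := CAlgSmall.dimAt_add_trdAt_le p (i (genericPoint W)) n fun ξ _ _ => htrd ξ
    have h2 : dimAt (i (genericPoint W)) = n := by
      have := dimAt_eq (i (genericPoint W))
      rw [hcodim] at this
      exact_mod_cast this.symm
    have h3 : dimAt (p (i (genericPoint W))) = 0 := by
      rw [show p (i (genericPoint W)) = genericPoint X from hη]
      have := dimAt_eq (genericPoint X)
      rw [show ringKrullDim (X.presheaf.stalk (genericPoint X)) = 0 from ringKrullDim_eq_zero_of_field _] at this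
      exact_mod_cast this.symm
    omega
  have hall : ∀ x, trdAt (i ≫ p) x = 0 := fun x => by
    have h1 := CAlgSmall.dimAt_add_trdAt_le (i ≫ p) x 0 fun ξ hξ _ => by
      have : ξ = genericPoint W := by
        have h := (isGenericPoint_closure (x := ξ))
        rw [irreducibleComponents_eq_singleton, Set.mem_singleton_iff] at hξ
        rw [hξ] at h
        exact h.eq (genericPoint_spec W)
      rw [this, hgen]
    have h2 : dimAt ((i ≫ p) x) ≤ dimAt x := by
      have h := CAlgH3.FibreCodim.dim_eq_add_fiberStalk (i ≫ p) x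
      have h' : ringKrullDim (X.presheaf.stalk ((i ≫ p) x)) ≤ ringKrullDim (W.presheaf.stalk x) := by
        rw [h]
        refine le_add_of_nonneg_right ?_
        haveI : Nontrivial (CInt.fiberStalk (i ≫ p) x) := by
          by_contra hn
          rw [not_nontrivial_iff_subsingleton] at hn
          rw [ringKrullDim_eq_bot_of_subsingleton (R := CInt.fiberStalk (i ≫ p) x), WithBot.add_bot] at h
          exact ringKrullDim_ne_bot h
        exact ringKrullDim_nonneg_of_nontrivial
      rw [dimAt_eq, dimAt_eq] at h'
      exact_mod_cast h'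
    omega
  constructor
  · refine (IsFinite.iff_isProper_and_locallyQuasiFinite _).mpr ⟨inferInstance, ?_⟩
    refine LocallyQuasiFinite.of_finite_preimage_singleton _ fun y => ?_
    have hd : DiscreteTopology ↥((i ≫ p).fiber y) := discreteTopology_iff_isOpen_singleton.mpr fun z => by
      have e : (i ≫ p) ((i ≫ p).fiberι y z) = y := ((i ≫ p).range_fiberι y).le ⟨z, rfl⟩
      exact CycLib28.isOpen_singleton_fibre _ _ y e z rfl
        (CycLib28.quasiFiniteAt_of_trdeg_zero _ y (fun x' _ => hall x') _ e)
    haveI := isCompact_iff_compactSpace.mp ((i ≫ p).isCompact_preimage_singleton y)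
    have : CompactSpace ↥((i ≫ p).fiber y) := Homeomorph.compactSpace ((i ≫ p).fiberHomeo y).symm
    have : Finite ↥((i ≫ p).fiber y) := finite_of_compact_of_discrete
    rw [← (i ≫ p).range_fiberι y]
    exact Set.finite_range _
  · refine ⟨fun y => ?_⟩
    have hr : Set.range (i ≫ p) = Set.univ := by
      rw [← ((i ≫ p).isClosedMap.isClosed_range).closure_eq]
      exact (i ≫ p).denseRange.closure_eq
    exact hr.ge trivial

end Groth.Agent.CodimGraph28
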